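import Cfsg.Agent.Lib.Grp.J3.D0

set_option autoImplicit false
set_option maxRecDepth 100000
set_option Elab.async false

namespace Cfsg.Agent.CG.J3

noncomputable def tabs : List ℕ := [t0,t1,t2,t3,t4,t5,t6,t7,t8,t9,t10,t11,t12,t13,t14,t15,t16,t17,t18,t19,t20,t21,t22,t23,t24,t25,t26,t27,t28,t29,t30,t31,t32,t33,t34,t35,t36,t37,t38,t39,t40,t41,t42,t43,t44,t45,t46,t47,t48,t49,t50,t51,t52,t53,t54,t55,t56]
noncomputable abbrev app : ℕ → ℕ → ℕ := appT tabs t57 0xfffff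
noncomputable def slpL : List (Bool × List ℕ) := [(false,[]),
  (false,[]),
  (false,[]),
  (false,[]),
  (false,[]),
  (false,[3,1,0,3,1]),
  (true,[5]),
  (false,[4]),
  (true,[7]),
  (false,[7,7,7,7]),
  (false,[5]),
  (true,[10]),
  (false,[7,1,6,3,3,1,1,3,9,4,2,2,4,4,5,2,8]),
  (false,[12,11,12,11,12,11,11]),
  (true,[13]),
  (false,[13,11,14,11,13,10,10]),
  (true,[15]),
  (false,[14,12,14,11,13,12,15]),
  (true,[17]),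
  (false,[12,17,16,10,13,10,15]),
  (false,[14,15,12,13,15,12,14]),
  (true,[20]),
  (false,[10,12,13,17,13,19,16]),
  (true,[22]),
  (false,[11,11,11,23,23,21,17,15,23,21,10,21,17,13]),
  (true,[24]),
  (false,[11,20,18,23,11,14,10,22,12,15,19,12,19]),
  (true,[26]),
  (false,[11,21,19,22,21,22,21,22,12,14,14,20]),
  (true,[28]),
  (false,[29,26,24,11,23,23,20,20,14,12,15,14,12,16,20]),
  (true,[30]),
  (false,[25,29,26,29,10,20,20,10,10,19,23,18,14,18,19,12,18]),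
  (true,[32]),
  (false,[25,25,26,11,11,12,20,19,18,12,23,10,22,11,16,16,17]),
  (false,[33,30,27,27,28,21,17,23,11,23,14,19,12,20,12,19,10,22]),
  (true,[35]),
  (false,[36,32,25,29,27,28,23,23,11,19,17,13,19,17,15,19,22,16]),
  (false,[37]),
  (false,[35]),
  (true,[39]),
  (false,[34,33,35]),
  (true,[41]),
  (false,[25,27,25,34,32,30,35]),
  (false,[20,22,18,27,27,24,24,33,35,37]),
  (false,[21,19,12,21,10,26,26,24,33,37]),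
  (true,[45]),
  (false,[10,22,11,26,26,28,24,33]),
  (false,[21,21,23,10,22,10,27,29,26,34,31]),
  (false,[23,10,22,18,22,26,28,24,34,33]),
  (false,[22,18,20,18,10,25,33,30,35]),
  (true,[50]),
  (false,[22,10,17,19,22,11,27,29,27,24,34,31]),
  (false,[27,28,24]),
  (false,[10,10]),
  (true,[54]),
  (false,[12,20,22,22,12,28,34,31,35,37])]
noncomputable def slp (a : ℕ) : Bool × List ℕ := nth slpL (false, []) a
noncomputable def invL : List ℕ := [0,2,1,4,3,6,5,8,7,9,11,10,12,14,13,16,15,18,17,19,21,20,23,22,25,24,27,26,29,28,31,30,33,32,34,36,35,37,38,40,39,42,41,43,44,46,45,47,48,49,51,50,52,53,55,54,56]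
noncomputable def inv (a : ℕ) : ℕ := nth invL 57 a
noncomputable def bs : List ℕ := [1240,67240,120320,8460,17440]
noncomputable def mc0 : Lvl := ⟨1240, [10,11,12,17,18,19,20,21,22,23], 6156,
  fun i => look 0xfffff mc0c (Nat.mul 20 i), fun i => look 0xffff mc0p (Nat.mul 16 i),
  fun i => look 255 mc0l (Nat.mul 8 i), fun i => look 255 mc0i (Nat.mul 8 i), fun x => look 0xfffff mc0q x, 6⟩
noncomputable def mc1 : Lvl := ⟨67240, [24,25,26,27,28,29], 85,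
  fun i => look 0xfffff mc1c (Nat.mul 20 i), fun i => look 0xff mc1p (Nat.mul 8 i),
  fun i => look 255 mc1l (Nat.mul 8 i), fun i => look 255 mc1i (Nat.mul 8 i), fun x => look 0xfffff mc1q x, 4⟩
noncomputable def mc2 : Lvl := ⟨120320, [30,31,32,33,34], 24,
  fun i => look 0xfffff mc2c (Nat.mul 20 i), fun i => look 0xff mc2p (Nat.mul 8 i),
  fun i => look 255 mc2l (Nat.mul 8 i), fun i => look 255 mc2i (Nat.mul 8 i), fun x => look 0xfffff mc2q x, 4⟩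
noncomputable def mc3 : Lvl := ⟨8460, [35,36], 2,
  fun i => look 0xfffff mc3c (Nat.mul 20 i), fun i => look 0xf mc3p (Nat.mul 4 i),
  fun i => look 255 mc3l (Nat.mul 8 i), fun i => look 255 mc3i (Nat.mul 8 i), fun x => look 0xfffff mc3q x, 1⟩
noncomputable def mc4 : Lvl := ⟨17440, [37], 2,
  fun i => look 0xfffff mc4c (Nat.mul 20 i), fun i => look 0xf mc4p (Nat.mul 4 i),
  fun i => look 255 mc4l (Nat.mul 8 i), fun i => look 255 mc4i (Nat.mul 8 i), fun x => look 0xfffff mc4q x, 1⟩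
noncomputable def mc : List Lvl := [mc0, mc1, mc2, mc3, mc4]
noncomputable def tcR : List (List ℕ) := [[38,38],
  [39,40],
  [40,39],
  [39,39,38],
  [41,42],
  [42,41],
  [41,41,41],
  [41,38,41,38,41,38],
  [42,39,42,38,41,39,41,38],
  [42,39,41,40,42,39,41,40],
  [43,43],
  [43,41,38,43,41,38],
  [41,43,41,43,41,43],
  [43,39,41,39,41,40,43,40,41,40,41,39],
  [43,39,43,39,41,39,43,40,43,40,41,40],
  [44,44],
  [44,38,44,38],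
  [44,41,44,42],
  [44,39,44,40,42,38,41],
  [44,43,44,43,44,43,44,38,40,42,40,42,39,42,43],
  [44,43,38,44,43,38,44,43,44,38,43,44,38,43,38],
  [44,43,39,43,39,43,44,43,39,43,39,43,44,43,39,43,39,43],
  [44,43,40,43,39,44,43,44,41,43,39,41,43,44,38,43,44,42,40,41,43,39,41,43,41]]
noncomputable def tc0T : List ℕ := [0,0,0,0,0,0,0,0,0,0,0,0,0,0,0,0,0,0,0,0,0,0,0,0,0,0,0,0,0,0,0,0,0,0,0,0,0,0,tc0t38,tc0t39,tc0t40,tc0t41,tc0t42,tc0t43,tc0t44]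
noncomputable def tc0r : Tr Rule := (.node (.node (.node (.node (.node (.node (.node (.leaf ⟨44,[44],15,1⟩) (.leaf ⟨41,[40,42,39,41,40,42,39],9,2⟩)) (.node (.leaf ⟨41,[40,42,39,41,40,42,39],9,6⟩) (.leaf ⟨44,[38,43,38,44,43,38,44,43,38,44,43,44,38,43],20,11⟩))) (.node (.node (.leaf ⟨41,[38,41,38,41,38],7,4⟩) (.leaf ⟨43,[39,41,39,41,40,43,40,41,40,41,39],13,0⟩)) (.node (.leaf ⟨44,[38,44,38],16,2⟩) (.leaf ⟨43,[39,44,43,44,41,43,39,41,43,44,38,43,44,42,40,41,43,39,41,43,41,44,43,40],22,3⟩)))) (.node (.node (.node (.leaf ⟨38,[39,39],3,2⟩) (.leaf ⟨40,[43,40,41,40,43,39,43,39,41,39,43],14,7⟩)) (.node (.leaf ⟨38,[41,44,39,44,40,42],18,5⟩) (.leaf ⟨43,[39,43,39,43,44,43,39,43,39,43,44,43,39,43,39,43,44],21,7⟩))) (.node (.node (.leaf ⟨38,[44,38,44],16,3⟩) (.leaf ⟨39,[42,43,44,43,44,43,44,43,44,38,40,42,40,42],19,12⟩)) (.node (.leaf ⟨41,[38,41,38,41,38],7,0⟩)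 (.leaf ⟨44,[43,38,44,43,38,44,43,44,38,43,44,38,43,38],20,0⟩))))) (.node (.node (.node (.node (.leaf ⟨39,[40],1,0⟩) (.leaf ⟨41,[40,41,39,43,39,41,39,41,40,43,40],13,8⟩)) (.node (.leaf ⟨41,[40,43,39,43,39,41,39,43,40,43,40],14,10⟩) (.leaf ⟨44,[43,38,44,43,44,38,43,44,38,43,38,44,43,38],20,3⟩))) (.node (.node (.leaf ⟨41,[38,42,39,42,38,41,39],8,6⟩) (.leaf ⟨44,[38,40,42,40,42,39,42,43,44,43,44,43,44,43],19,6⟩)) (.node (.leaf ⟨40,[41,39,43,39,41,39,41,40,43,40,41],13,9⟩) (.leaf ⟨43,[40,41,40,41,39,43,39,41,39,41,40],13,6⟩)))) (.node (.node (.node (.leaf ⟨43,[41,43,41,43,41],12,3⟩) (.leaf ⟨43,[40,41,40,43,39,43,39,41,39,43,40],14,8⟩)) (.node (.leaf ⟨41,[44,39,44,40,42,38],18,6⟩) (.leaf ⟨41,[43,39,41,43,41,44,43,40,43,39,44,43,44,41,43,39,41,43,44,38,43,44,42,40],22,19⟩))) (.node (.node (.leaf ⟨41,[38,41,38,41,38],7,2⟩) (.leaf ⟨44,[43,44,43,44,43,44,38,40,42,40,42,39,42,43],19,0⟩))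 (.leaf ⟨40,[42,39,41,40,42,39,41],9,7⟩))))) (.node (.node (.node (.node (.node (.leaf ⟨38,[38],0,1⟩) (.leaf ⟨39,[43,39,41,39,41,40,43,40,41,40,41],13,11⟩)) (.node (.leaf ⟨38,[42,39,42,38,41,39,41],8,7⟩) (.leaf ⟨38,[44,43,44,38,43,44,38,43,38,44,43,38,44,43],20,5⟩))) (.node (.node (.leaf ⟨38,[41,38,41,38,41],7,5⟩) (.leaf ⟨43,[44,38,40,42,40,42,39,42,43,44,43,44,43,44],19,5⟩)) (.node (.leaf ⟨39,[42,38,41,39,41,38,42],8,1⟩) (.leaf ⟨43,[44,41,43,39,41,43,44,38,43,44,42,40,41,43,39,41,43,41,44,43,40,43,39,44],22,6⟩)))) (.node (.node (.node (.leaf ⟨41,[41,41],6,2⟩) (.leaf ⟨38,[43,41,38,43,41],11,2⟩)) (.node (.leaf ⟨44,[39,44,40,42,38,41],18,0⟩) (.leaf ⟨38,[43,44,42,40,41,43,39,41,43,41,44,43,40,43,39,44,43,44,41,43,39,41,43,44],22,14⟩))) (.node (.node (.leaf ⟨41,[44,42,44],17,1⟩) (.leaf ⟨43,[44,43,44,43,44,38,40,42,40,42,39,42,43,44],19,1⟩))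 (.node (.leaf ⟨39,[41,40,42,39,41,40,42],9,1⟩) (.leaf ⟨43,[39,43,39,43,44,43,39,43,39,43,44,43,39,43,39,43,44],21,1⟩))))) (.node (.node (.node (.node (.leaf ⟨41,[42],4,0⟩) (.leaf ⟨41,[39,43,39,41,39,41,40,43,40,41,40],13,10⟩)) (.node (.leaf ⟨40,[42,38,41,44,39,44],18,3⟩) (.leaf ⟨43,[44,43,39,43,39,43,44,43,39,43,39,43,44,43,39,43,39],21,11⟩))) (.node (.node (.leaf ⟨38,[41,39,41,38,42,39,42],8,3⟩) (.leaf ⟨42,[43,44,43,44,43,44,43,44,38,40,42,40,42,39],19,13⟩)) (.node (.leaf ⟨39,[43,39,41,39,43,40,43,40,41,40,43],14,1⟩) (.leaf ⟨44,[43,39,43,39,43,44,43,39,43,39,43,44,43,39,43,39,43],21,0⟩)))) (.node (.node (.node (.leaf ⟨41,[38,43,41,38,43],11,4⟩) (.leaf ⟨40,[41,40,41,39,43,39,41,39,41,40,43],13,7⟩)) (.node (.leaf ⟨44,[42,44,41],17,2⟩) (.leaf ⟨44,[41,43,39,41,43,44,38,43,44,42,40,41,43,39,41,43,41,44,43,40,43,39,44,43],22,7⟩))) (.node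 (.node (.leaf ⟨38,[41,38,41,38,41],7,3⟩) (.leaf ⟨44,[43,44,38,43,44,38,43,38,44,43,38,44,43,38],20,6⟩)) (.leaf ⟨42,[39,41,40,42,39,41,40],9,0⟩)))))) (.node (.node (.node (.node (.node (.node (.leaf ⟨43,[43],10,1⟩) (.leaf ⟨39,[41,39,41,40,43,40,41,40,41,39,43],13,1⟩)) (.node (.leaf ⟨42,[39,41,40,42,39,41,40],9,4⟩) (.leaf ⟨38,[43,44,38,43,38,44,43,38,44,43,38,44,43,44],20,9⟩))) (.node (.node (.leaf ⟨43,[41,38,43,41,38],11,0⟩) (.leaf ⟨41,[39,41,40,43,40,41,40,41,39,43,39],13,2⟩)) (.node (.leaf ⟨38,[44,38,44],16,1⟩) (.leaf ⟨43,[41,44,43,40,43,39,44,43,44,41,43,39,41,43,44,38,43,44,42,40,41,43,39,41],22,23⟩)))) (.node (.node (.node (.leaf ⟨39,[39,38],3,0⟩) (.leaf ⟨43,[39,43,39,41,39,43,40,43,40,41,40],14,0⟩)) (.node (.leaf ⟨44,[40,42,38,41,44,39],18,2⟩) (.leaf ⟨39,[43,39,43,44,43,39,43,39,43,44,43,39,43,39,43,44,43],21,8⟩))) (.node (.node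 (.leaf ⟨42,[44,41,44],17,3⟩) (.leaf ⟨44,[43,44,43,44,38,40,42,40,42,39,42,43,44,43],19,2⟩)) (.node (.leaf ⟨41,[43,41,43,41,43],12,2⟩) (.leaf ⟨44,[43,39,43,39,43,44,43,39,43,39,43,44,43,39,43,39,43],21,6⟩))))) (.node (.node (.node (.node (.leaf ⟨42,[41],4,1⟩) (.leaf ⟨41,[40,43,40,41,40,41,39,43,39,41,39],13,4⟩)) (.node (.leaf ⟨41,[39,43,40,43,40,41,40,43,39,43,39],14,4⟩) (.leaf ⟨44,[43,39,43,39,43,44,43,39,43,39,43,44,43,39,43,39,43],21,12⟩))) (.node (.node (.leaf ⟨42,[38,41,39,41,38,42,39],8,2⟩) (.leaf ⟨40,[42,39,42,43,44,43,44,43,44,43,44,38,40,42],19,10⟩)) (.node (.leaf ⟨39,[41,40,43,40,41,40,41,39,43,39,41],13,3⟩) (.leaf ⟨39,[43,40,43,40,41,40,43,39,43,39,41],14,5⟩)))) (.node (.node (.node (.leaf ⟨43,[41,43,41,43,41],12,5⟩) (.leaf ⟨40,[43,40,41,40,41,39,43,39,41,39,41],13,5⟩)) (.node (.leaf ⟨44,[38,44,38],16,0⟩) (.leaf ⟨40,[41,43,39,41,43,41,44,43,40,43,39,44,43,44,41,43,39,41,43,44,38,43,44,42],22,18⟩)))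 (.node (.node (.leaf ⟨41,[38,43,41,38,43],11,1⟩) (.leaf ⟨44,[38,43,44,38,43,38,44,43,38,44,43,38,44,43],20,8⟩)) (.leaf ⟨40,[42,39,41,40,42,39,41],9,3⟩))))) (.node (.node (.node (.node (.node (.leaf ⟨40,[39],1,1⟩) (.leaf ⟨40,[43,39,43,39,41,39,43,40,43,40,41],14,11⟩)) (.node (.leaf ⟨42,[39,42,38,41,39,41,38],8,0⟩) (.leaf ⟨43,[44,38,43,38,44,43,38,44,43,38,44,43,44,38],20,10⟩))) (.node (.node (.leaf ⟨43,[41,38,43,41,38],11,3⟩) (.leaf ⟨44,[43,44,38,40,42,40,42,39,42,43,44,43,44,43],19,4⟩)) (.node (.leaf ⟨39,[41,38,42,39,42,38,41],8,5⟩) (.leaf ⟨43,[40,43,39,44,43,44,41,43,39,41,43,44,38,43,44,42,40,41,43,39,41,43,41,44],22,1⟩)))) (.node (.node (.node (.leaf ⟨38,[43,41,38,43,41],11,5⟩) (.leaf ⟨43,[40,43,40,41,40,43,39,43,39,41,39],14,6⟩)) (.node (.leaf ⟨42,[38,41,44,39,44,40],18,4⟩) (.leaf ⟨41,[43,39,41,43,44,38,43,44,42,40,41,43,39,41,43,41,44,43,40,43,39,44,43,44],22,8⟩)))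 (.node (.node (.leaf ⟨41,[43,41,43,41,43],12,4⟩) (.leaf ⟨41,[43,41,43,41,43],12,0⟩)) (.leaf ⟨43,[39,41,39,43,40,43,40,41,40,43,39],14,2⟩)))) (.node (.node (.node (.node (.leaf ⟨39,[38,39],3,1⟩) (.leaf ⟨39,[41,39,43,40,43,40,41,40,43,39,43],14,3⟩)) (.node (.leaf ⟨39,[44,40,42,38,41,44],18,1⟩) (.leaf ⟨39,[43,44,43,39,43,39,43,44,43,39,43,39,43,44,43,39,43],21,10⟩))) (.node (.node (.leaf ⟨41,[39,41,38,42,39,42,38],8,4⟩) (.leaf ⟨43,[44,43,44,38,40,42,40,42,39,42,43,44,43,44],19,3⟩)) (.node (.leaf ⟨38,[41,38,41,38,41],7,1⟩) (.leaf ⟨43,[44,43,44,43,44,43,44,38,40,42,40,42,39,42],19,14⟩)))) (.node (.node (.node (.leaf ⟨41,[41,41],6,1⟩) (.leaf ⟨40,[41,40,43,39,43,39,41,39,43,40,43],14,9⟩)) (.node (.leaf ⟨44,[41,44,42],17,0⟩) (.leaf ⟨39,[44,43,44,41,43,39,41,43,44,38,43,44,42,40,41,43,39,41,43,41,44,43,40,43],22,4⟩))) (.node (.node (.leaf ⟨43,[41,43,41,43,41],12,1⟩)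 (.leaf ⟨43,[44,38,43,44,38,43,38,44,43,38,44,43,38,44],20,7⟩)) (.leaf ⟨39,[41,40,42,39,41,40,42],9,5⟩)))))))
noncomputable def tc0 : TCL := ⟨[38,39,40,41,42,43,44], [38,39,40,41,42,43], 6156, 36, 0x3ffff, 18, 0x7f,
  fun a x => look 0xfffffffff (nth tc0T 0 a) x, fun x => look 0xfffffffff tc0d x, tc0r⟩
noncomputable def tc1T : List ℕ := [0,0,0,0,0,0,0,0,0,0,0,0,0,0,0,0,0,0,0,0,0,0,0,0,0,0,0,0,0,0,0,0,0,0,0,0,0,0,tc1t38,tc1t39,tc1t40,tc1t41,tc1t42,tc1t43]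
noncomputable def tc1r : Tr Rule := (.node (.node (.node (.node (.node (.node (.leaf ⟨43,[43],10,1⟩) (.leaf ⟨43,[41,38,43,41,38],11,0⟩)) (.leaf ⟨42,[38,41,39,41,38,42,39],8,2⟩)) (.node (.node (.leaf ⟨39,[39,38],3,0⟩) (.leaf ⟨41,[43,41,43,41,43],12,4⟩)) (.leaf ⟨43,[40,41,40,43,39,43,39,41,39,43,40],14,8⟩))) (.node (.node (.node (.leaf ⟨42,[41],4,1⟩) (.leaf ⟨41,[38,42,39,42,38,41,39],8,6⟩)) (.leaf ⟨43,[41,38,43,41,38],11,3⟩)) (.node (.leaf ⟨38,[43,41,38,43,41],11,2⟩) (.leaf ⟨40,[43,39,43,39,41,39,43,40,43,40,41],14,11⟩)))) (.node (.node (.node (.node (.leaf ⟨40,[39],1,1⟩) (.leaf ⟨43,[41,43,41,43,41],12,1⟩)) (.leaf ⟨41,[39,41,38,42,39,42,38],8,4⟩)) (.node (.leaf ⟨41,[38,43,41,38,43],11,4⟩) (.leaf ⟨41,[40,43,39,43,39,41,39,43,40,43,40],14,10⟩))) (.node (.node (.node (.leaf ⟨39,[38,39],3,1⟩) (.leaf ⟨39,[41,40,42,39,41,40,42],9,5⟩)) (.leaf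 ⟨39,[41,40,43,40,41,40,41,39,43,39,41],13,3⟩)) (.node (.leaf ⟨41,[38,41,38,41,38],7,4⟩) (.leaf ⟨41,[38,43,41,38,43],11,1⟩))))) (.node (.node (.node (.node (.node (.leaf ⟨38,[38],0,1⟩) (.leaf ⟨42,[39,41,40,42,39,41,40],9,4⟩)) (.leaf ⟨38,[41,38,41,38,41],7,5⟩)) (.node (.leaf ⟨41,[41,41],6,2⟩) (.leaf ⟨41,[39,43,40,43,40,41,40,43,39,43,39],14,4⟩))) (.node (.node (.node (.leaf ⟨41,[42],4,0⟩) (.leaf ⟨38,[41,39,41,38,42,39,42],8,3⟩)) (.leaf ⟨40,[41,39,43,39,41,39,41,40,43,40,41],13,9⟩)) (.node (.leaf ⟨41,[41,41],6,1⟩) (.leaf ⟨43,[39,41,39,43,40,43,40,41,40,43,39],14,2⟩)))) (.node (.node (.node (.node (.leaf ⟨39,[40],1,0⟩) (.leaf ⟨40,[41,40,41,39,43,39,41,39,41,40,43],13,7⟩)) (.leaf ⟨43,[41,43,41,43,41],12,3⟩)) (.node (.leaf ⟨38,[43,41,38,43,41],11,5⟩) (.leaf ⟨39,[43,39,41,39,43,40,43,40,41,40,43],14,1⟩))) (.node (.node (.node (.leaf ⟨38,[39,39],3,2⟩)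 (.leaf ⟨39,[41,40,42,39,41,40,42],9,1⟩)) (.leaf ⟨41,[38,41,38,41,38],7,0⟩)) (.node (.leaf ⟨41,[38,41,38,41,38],7,2⟩) (.leaf ⟨39,[42,38,41,39,41,38,42],8,1⟩))))))
noncomputable def tc1 : TCL := ⟨[38,39,40,41,42,43], [38,39,40,41,42], 85, 24, 0x7ff, 11, 0x3f,
  fun a x => look 0xffffff (nth tc1T 0 a) x, fun x => look 0xffffff tc1d x, tc1r⟩
noncomputable def tc2T : List ℕ := [0,0,0,0,0,0,0,0,0,0,0,0,0,0,0,0,0,0,0,0,0,0,0,0,0,0,0,0,0,0,0,0,0,0,0,0,0,0,tc2t38,tc2t39,tc2t40,tc2t41,tc2t42]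
noncomputable def tc2r : Tr Rule := (.node (.node (.node (.node (.node (.leaf ⟨42,[41],4,1⟩) (.leaf ⟨42,[39,41,40,42,39,41,40],9,4⟩)) (.leaf ⟨41,[41,41],6,2⟩)) (.node (.leaf ⟨39,[40],1,0⟩) (.leaf ⟨38,[41,39,41,38,42,39,42],8,3⟩))) (.node (.node (.node (.leaf ⟨38,[38],0,1⟩) (.leaf ⟨41,[41,41],6,1⟩)) (.leaf ⟨38,[41,38,41,38,41],7,5⟩)) (.node (.leaf ⟨38,[39,39],3,2⟩) (.leaf ⟨39,[41,40,42,39,41,40,42],9,5⟩)))) (.node (.node (.node (.node (.leaf ⟨41,[42],4,0⟩) (.leaf ⟨41,[40,42,39,41,40,42,39],9,6⟩)) (.leaf ⟨41,[38,41,38,41,38],7,4⟩)) (.node (.leaf ⟨39,[38,39],3,1⟩) (.leaf ⟨38,[42,39,42,38,41,39,41],8,7⟩))) (.node (.node (.node (.leaf ⟨40,[39],1,1⟩) (.leaf ⟨40,[42,39,41,40,42,39,41],9,7⟩)) (.leaf ⟨39,[41,38,42,39,42,38,41],8,5⟩)) (.node (.leaf ⟨39,[39,38],3,0⟩) (.leaf ⟨40,[42,39,41,40,42,39,41],9,3⟩)))))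
noncomputable def tc2 : TCL := ⟨[38,39,40,41,42], [38,39,40], 24, 20, 0x1ff, 9, 0x1f,
  fun a x => look 0xfffff (nth tc2T 0 a) x, fun x => look 0xfffff tc2d x, tc2r⟩
noncomputable def tc3T : List ℕ := [0,0,0,0,0,0,0,0,0,0,0,0,0,0,0,0,0,0,0,0,0,0,0,0,0,0,0,0,0,0,0,0,0,0,0,0,0,0,tc3t38,tc3t39,tc3t40]
noncomputable def tc3r : Tr Rule := (.node (.node (.leaf ⟨40,[39],1,1⟩) (.leaf ⟨38,[39,39],3,2⟩)) (.leaf ⟨39,[39,38],3,0⟩))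
noncomputable def tc3 : TCL := ⟨[38,39,40], [38], 2, 16, 0x3f, 6, 0x7,
  fun a x => look 0xffff (nth tc3T 0 a) x, fun x => look 0xffff tc3d x, tc3r⟩
noncomputable def tc4T : List ℕ := [0,0,0,0,0,0,0,0,0,0,0,0,0,0,0,0,0,0,0,0,0,0,0,0,0,0,0,0,0,0,0,0,0,0,0,0,0,0,tc4t38]
noncomputable def tc4r : Tr Rule := (.leaf ⟨38,[38],0,1⟩)
noncomputable def tc4 : TCL := ⟨[38], [], 2, 16, 0x3f, 6, 0x3,
  fun a x => look 0xffff (nth tc4T 0 a) x, fun x => look 0xffff tc4d x, tc4r⟩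
noncomputable def tc : List TCL := [tc0, tc1, tc2, tc3, tc4]
noncomputable def inW : List (List ℕ) := [[39,44,43,39,43,44,39,43,44,41,43,40,43,40,42,39],
  [41,39,43,42,39,43,44,43,42,39,43,44,42,43,42,39,43,41,39,42,38],
  [43,38,43,39,43,44,42,43,42,39,43,44,40,43,42,40,43,42,39,42,38],
  [43,42,39,43,44,40,41,43,44,39,43,44,39,43,42,39,43,38,41,38],
  [44,39,43,41,39,44,43,44,39,41,43,40,43,41,40,41]]
noncomputable def tcS : List ℕ := [38,39,40,41,42,43,44]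

end Cfsg.Agent.CG.J3
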