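import Cfsg.Agent.Lib.Grp.J3.ODefs

set_option autoImplicit false
set_option maxRecDepth 100000
set_option Elab.async false

namespace Cfsg.Agent.CG.J3

theorem Oc104 : cc0.chk (appT tabs t57 0xfffff) 1 959 = true := by decide +kernel
theorem Oc105 : cc1.chk (appT tabs t57 0xfffff) 1 1 = true := by decide +kernel
theorem Oc106 : okcb 6156 20 (bases cc) = true := by decide +kernel
theorem Oc107 : headAll (appT tabs t57 0xfffff) cc [] = true := by decide +kernel
theorem Oc108 : tp0.head tpR = true := by decide +kernel
theorem Oc109 : allL (fun a => tp0.chk a 0 tp0.N) tp0.S = true := by decide +kernel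
theorem Oc110 : tcLink tp [] [45,46,47,48] = true := by decide +kernel
theorem Oc111 : pc0.chk (appT tabs t57 0xfffff) 1 127 = true := by decide +kernel
theorem Oc112 : okcb 6156 20 (bases pc) = true := by decide +kernel
theorem Oc113 : headAll (appT tabs t57 0xfffff) pc [] = true := by decide +kernel
theorem Oc114 : allL (fun v => eqW (appT tabs t57 0xfffff) bs v []) tpR = true := by decide +kernel
theorem Oc115 : trChk (appT tabs t57 0xfffff) mc0 [mc1, mc2, mc3, mc4] bs (diagQ pQ) (diagQ pR) pF 0 2457 = true := by decide +kernel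
theorem Oc116 : trChk (appT tabs t57 0xfffff) mc0 [mc1, mc2, mc3, mc4] bs (diagQ pQ) (diagQ pR) pF 2457 2457 = true := by decide +kernel
theorem Oc117 : trChk (appT tabs t57 0xfffff) mc0 [mc1, mc2, mc3, mc4] bs (diagQ pQ) (diagQ pR) pF 4914 1242 = true := by decide +kernel
theorem Oc118 : classChk (appT tabs t57 0xfffff) bs 12 2 49 [23,12,27,27,37] pS pF pU = true := by decide +kernel
theorem Oc119 : powChk (appT tabs t57 0xfffff) bs 10 19 aK nK = true := by decide +kernel
theorem Oc120 : en.chk (appT tabs t57 0xfffff) tst 0 5064 0 26388301401322900 = true := by decide +kernel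
theorem Oc121 : en.chk (appT tabs t57 0xfffff) tst 5064 5064 26388301401322900 53062433694142640 = true := by decide +kernel
theorem Oc122 : en.chk (appT tabs t57 0xfffff) tst 10128 5064 53062433694142640 79494701656379480 = true := by decide +kernel
theorem Oc123 : en.chk (appT tabs t57 0xfffff) tst 15192 5064 79494701656379480 105883077401712160 = true := by decide +kernel
theorem Oc124 : en.chk (appT tabs t57 0xfffff) tst 20256 5064 105883077401712160 130929891611875860 = true := by decide +kernel
theorem Oc125 : en.chk (appT tabs t57 0xfffff) tst 25320 843 130929891611875860 135349984999534661 = true := by decide +kernel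
theorem Oc126 : commAll (appT tabs t57 0xfffff) bs 12 cc = true := by decide +kernel
theorem Oc127 : relChk (appT tabs t57 0xfffff) bs 10 12 rT = true := by decide +kernel
theorem Oc128 : eqW (appT tabs t57 0xfffff) bs (substW img [38,38]) [] = true := by decide +kernel
theorem Oc129 : eqW (appT tabs t57 0xfffff) bs (substW img [39,40]) [] = true := by decide +kernel
theorem Oc130 : eqW (appT tabs t57 0xfffff) bs (substW img [40,39]) [] = true := by decide +kernel
theorem Oc131 : eqW (appT tabs t57 0xfffff) bs (substW img [39,39,38]) [] = true := by decide +kernel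
theorem Oc132 : eqW (appT tabs t57 0xfffff) bs (substW img [41,42]) [] = true := by decide +kernel
theorem Oc133 : eqW (appT tabs t57 0xfffff) bs (substW img [42,41]) [] = true := by decide +kernel
theorem Oc134 : eqW (appT tabs t57 0xfffff) bs (substW img [41,41,41]) [] = true := by decide +kernel
theorem Oc135 : eqW (appT tabs t57 0xfffff) bs (substW img [41,38,41,38,41,38]) [] = true := by decide +kernel
theorem Oc136 : eqW (appT tabs t57 0xfffff) bs (substW img [42,39,42,38,41,39,41,38]) [] = true := by decide +kernel
theorem Oc137 : eqW (appT tabs t57 0xfffff) bs (substW img [42,39,41,40,42,39,41,40]) [] = true := by decide +kernel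
theorem Oc138 : eqW (appT tabs t57 0xfffff) bs (substW img [43,43]) [] = true := by decide +kernel
theorem Oc139 : eqW (appT tabs t57 0xfffff) bs (substW img [43,41,38,43,41,38]) [] = true := by decide +kernel
theorem Oc140 : eqW (appT tabs t57 0xfffff) bs (substW img [41,43,41,43,41,43]) [] = true := by decide +kernel
theorem Oc141 : eqW (appT tabs t57 0xfffff) bs (substW img [43,39,41,39,41,40,43,40,41,40,41,39]) [] = true := by decide +kernel
theorem Oc142 : eqW (appT tabs t57 0xfffff) bs (substW img [43,39,43,39,41,39,43,40,43,40,41,40]) [] = true := by decide +kernel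
theorem Oc143 : eqW (appT tabs t57 0xfffff) bs (substW img [44,44]) [] = true := by decide +kernel
theorem Oc144 : eqW (appT tabs t57 0xfffff) bs (substW img [44,38,44,38]) [] = true := by decide +kernel
theorem Oc145 : eqW (appT tabs t57 0xfffff) bs (substW img [44,41,44,42]) [] = true := by decide +kernel
theorem Oc146 : eqW (appT tabs t57 0xfffff) bs (substW img [44,39,44,40,42,38,41]) [] = true := by decide +kernel
theorem Oc147 : eqW (appT tabs t57 0xfffff) bs (substW img [44,43,44,43,44,43,44,38,40,42,40,42,39,42,43]) [] = true := by decide +kernel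
theorem Oc148 : eqW (appT tabs t57 0xfffff) bs (substW img [44,43,38,44,43,38,44,43,44,38,43,44,38,43,38]) [] = true := by decide +kernel
theorem Oc149 : eqW (appT tabs t57 0xfffff) bs (substW img [44,43,39,43,39,43,44,43,39,43,39,43,44,43,39,43,39,43]) [] = true := by decide +kernel
theorem Oc150 : eqW (appT tabs t57 0xfffff) bs (substW img [44,43,40,43,39,44,43,44,41,43,39,41,43,44,38,43,44,42,40,41,43,39,41,43,41]) [] = true := by decide +kernel
theorem Oc151 : trChk (appT tabs t57 0xfffff) mc0 [mc1, mc2, mc3, mc4] bs (pairQ 10 12 54 56 nQ) (pairQ 10 12 54 56 [[0], [1]]) [] 0 1228 = true := by decide +kernel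
theorem Oc152 : trChk (appT tabs t57 0xfffff) mc0 [mc1, mc2, mc3, mc4] bs (pairQ 10 12 54 56 nQ) (pairQ 10 12 54 56 [[0], [1]]) [] 1228 1228 = true := by decide +kernel
theorem Oc153 : trChk (appT tabs t57 0xfffff) mc0 [mc1, mc2, mc3, mc4] bs (pairQ 10 12 54 56 nQ) (pairQ 10 12 54 56 [[0], [1]]) [] 2456 1228 = true := by decide +kernel
theorem Oc154 : trChk (appT tabs t57 0xfffff) mc0 [mc1, mc2, mc3, mc4] bs (pairQ 10 12 54 56 nQ) (pairQ 10 12 54 56 [[0], [1]]) [] 3684 1228 = true := by decide +kernel
theorem Oc155 : trChk (appT tabs t57 0xfffff) mc0 [mc1, mc2, mc3, mc4] bs (pairQ 10 12 54 56 nQ) (pairQ 10 12 54 56 [[0], [1]]) [] 4912 1228 = true := by decide +kernel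
theorem Oc156 : trChk (appT tabs t57 0xfffff) mc0 [mc1, mc2, mc3, mc4] bs (pairQ 10 12 54 56 nQ) (pairQ 10 12 54 56 [[0], [1]]) [] 6140 16 = true := by decide +kernel

end Cfsg.Agent.CG.J3
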